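import Groth.Agent.S9739
import Groth.Agent.LocDimBC.Scheme
import Groth.Agent.FlatDim.Trdeg
import Groth.Agent.DimFormulaLib.Misc
import Groth.Agent.DimFormulaLib.Scheme

/-!
# Universal equidimensionality of flat morphisms

A flat morphism of finite presentation whose relative dimension is `r` at every maximal point of the source has
relative dimension `r` everywhere, after any base change; and the components of every base change dominate
components of the new base.
-/

set_option autoImplicit false
set_option linter.style.haveILetI false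
set_option backward.isDefEq.respectTransparency false

universe u

open CategoryTheory CategoryTheory.Limits AlgebraicGeometry Topology TopologicalSpace

namespace Groth.Agent.EquidimUniv

variable {W T : Scheme.{u}} (f : W ⟶ T)

/-- The fibre dimension at a point of a fibre is its local dimension in the fibre. -/
theorem fibreDimAt_fiberι (y : T) (z : f.fiber y) :
    FlatMor.fibreDimAt f (f.fiberι y z) = FlatMor.localDim (f.fiber y) z := by
  obtain ⟨x, hx⟩ : ∃ x, x = f.fiberι y z := ⟨_, rfl⟩
  obtain rfl : f x = y := hx ▸ (f.fiberHomeo y z).2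
  rw [← hx]
  show FlatMor.localDim (f.fiber (f x)) (f.asFiber x) = _
  congr 1
  exact (f.fiberι _).isEmbedding.injective ((f.fiberι_asFiber x).trans hx)

/-- A scheme locally of finite type over a field whose components all have local dimension `r` has local
dimension `r` everywhere. -/
theorem localDim_eq_of_maximal {k : Type u} [Field k] {F : Scheme.{u}} (q : F ⟶ Spec (CommRingCat.of k))
    [LocallyOfFiniteType q] (r : WithBot ℕ∞)
    (h : ∀ η : F, (∀ w : F, w ⤳ η → w = η) → FlatMor.localDim F η = r) (z : F) :
    FlatMor.localDim F z = r := by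
  refine le_antisymm ?_ ?_
  · have hdim : topologicalKrullDim F ≤ r := by
      refine DimFormulaLib.topologicalKrullDim_le_of_components r fun η hη => ?_
      haveI : Subsingleton ↥(Spec (CommRingCat.of k)) := inferInstanceAs (Subsingleton (PrimeSpectrum k))
      obtain ⟨t, ht, hd⟩ := FlatDim.topologicalKrullDim_closure k q η
      obtain ⟨t', ht', hd'⟩ := FlatDim.fibreDimAt_maximal q (x := η) (fun w _ hw => hη w hw ▸ specializes_rfl)
      rw [hd, ← h η hη, DimFormulaLib.localDim_eq_fibreDimAt_of_subsingleton q η, hd']
      rw [ht] at ht'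
      exact le_of_eq (by exact_mod_cast ht')
    refine le_trans ?_ hdim
    exact iInf_le_of_le ⟨⊤, trivial⟩ (topologicalKrullDim_subspace_le _ _)
  · obtain ⟨η, hη, hmax⟩ := DimFormulaLib.exists_maximal_point z
    exact (h η hmax).ge.trans (DimFormulaLib.localDim_le_of_specializes hη)

/-- If the relative dimension is `r` at the maximal points of a fibre, it is `r` on the whole fibre. -/
theorem fibreDimAt_eq_of_maximal_in_fibre [LocallyOfFiniteType f] (r : WithBot ℕ∞) (x : W)
    (h : ∀ η : f.fiber (f x), (∀ w : f.fiber (f x), w ⤳ η → w = η) →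
      FlatMor.fibreDimAt f (f.fiberι (f x) η) = r) :
    FlatMor.fibreDimAt f x = r := by
  haveI : LocallyOfFiniteType (f.fiberToSpecResidueField (f x)) := MorphismProperty.pullback_snd _ _ inferInstance
  exact localDim_eq_of_maximal (k := T.residueField (f x)) (f.fiberToSpecResidueField (f x)) r
    (fun η hη => (fibreDimAt_fiberι f _ η).symm.trans (h η hη)) (f.asFiber x)

/-- For a flat morphism of finite presentation the relative dimension is determined at maximal points. -/
theorem fibreDimAt_eq_of_maximal [Flat f] [LocallyOfFinitePresentation f] (r : WithBot ℕ∞)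
    (h : ∀ ξ : W, (∀ w : W, w ⤳ ξ → w = ξ) → FlatMor.fibreDimAt f ξ = r) (x : W) :
    FlatMor.fibreDimAt f x = r := by
  refine fibreDimAt_eq_of_maximal_in_fibre f r x fun η hη => ?_
  obtain ⟨p, hp⟩ : ∃ p, p = f.fiberι (f x) η := ⟨_, rfl⟩
  obtain ⟨ξ, hξ, hmax⟩ := DimFormulaLib.exists_maximal_point p
  rw [← hp, ← h ξ hmax]
  refine (S9739.result f p ξ hξ ⟨closure {f.asFiber p}, FlatDim.closure_mem_components _ ?_, isGenericPoint_closure⟩).symm
  have hfp : f p = f x := hp ▸ (f.fiberHomeo (f x) η).2
  intro w hw
  -- transport to the fibre through `x`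
  have key : ∀ (y : T) (hy : f p = y) (η : f.fiber y), f.fiberι y η = p →
      (∀ w : f.fiber y, w ⤳ η → w = η) → f.asFiber p ⤳ w := by
    intro y hy η hη hmax
    subst hy
    have e : η = f.asFiber p := (f.fiberι _).isEmbedding.injective (hη.trans (f.fiberι_asFiber p).symm)
    subst e
    exact specializes_of_eq (hmax w hw).symm
  exact key _ hfp η hp.symm hη

/-- Universal equidimensionality. -/
theorem univ_equidimensional [Flat f] [LocallyOfFinitePresentation f] (r : WithBot ℕ∞)
    (h : ∀ ξ : W, (∀ w : W, w ⤳ ξ → w = ξ) → FlatMor.fibreDimAt f ξ = r) {T' : Scheme.{u}} (g : T' ⟶ T) :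
    (∀ w : ↥(pullback f g), FlatMor.fibreDimAt (pullback.snd f g) w = r) ∧
      ∀ C ∈ irreducibleComponents ↥(pullback f g),
        closure ((pullback.snd f g).base '' C) ∈ irreducibleComponents ↥T' := by
  refine ⟨fun w => ?_, fun C hC => ?_⟩
  · rw [LocDimBC.fibreDimAt_baseChange (IsPullback.of_hasPullback f g) w]
    exact fibreDimAt_eq_of_maximal f r h _
  · obtain ⟨ξ, rfl, hξ⟩ := FlatDim.exists_generic_of_component hC
    rw [closure_image_closure (pullback.snd f g).continuous, Set.image_singleton]
    exact FlatDim.closure_mem_components _ (FlatDim.maximal_map (pullback.snd f g) hξ)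

end Groth.Agent.EquidimUniv
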