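import Groth.Agent.EquidimUniv.Basic

/-!
# Fibres of an irreducible closed subscheme over a maximal point
-/

set_option autoImplicit false
set_option linter.style.haveILetI false
set_option backward.isDefEq.respectTransparency false

universe u

open CategoryTheory CategoryTheory.Limits AlgebraicGeometry Topology TopologicalSpace

namespace Groth.Agent.EquidimUniv

theorem dim_eq_of_range_eq {A B X : Type u} [TopologicalSpace A] [TopologicalSpace B] [TopologicalSpace X]
    {a : A → X} {b : B → X} (ha : IsEmbedding a) (hb : IsEmbedding b) (h : Set.range a = Set.range b) :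
    topologicalKrullDim A = topologicalKrullDim B :=
  ((ha.toHomeomorph.trans (Homeomorph.setCongr h)).trans hb.toHomeomorph.symm).isHomeomorph.topologicalKrullDim_eq

/-- A scheme locally of finite type over a field with a generic point has local dimension its dimension there. -/
theorem localDim_generic {k : Type u} [Field k] {F : Scheme.{u}} (q : F ⟶ Spec (CommRingCat.of k))
    [LocallyOfFiniteType q] (z : F) (hz : ∀ w : F, z ⤳ w) : FlatMor.localDim F z = topologicalKrullDim F := by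
  haveI : Subsingleton ↥(Spec (CommRingCat.of k)) := inferInstanceAs (Subsingleton (PrimeSpectrum k))
  obtain ⟨t, ht, hd⟩ := FlatDim.topologicalKrullDim_closure k q z
  obtain ⟨t', ht', hd'⟩ := FlatDim.fibreDimAt_maximal q (x := z) (fun w _ _ => hz w)
  have e : closure ({z} : Set F) = Set.univ := Set.eq_univ_of_forall fun w => (hz w).mem_closure
  have hu : topologicalKrullDim ↥(closure ({z} : Set F)) = topologicalKrullDim F := by
    rw [e]
    exact (Homeomorph.Set.univ F).isHomeomorph.topologicalKrullDim_eq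
  rw [← hu, hd, DimFormulaLib.localDim_eq_fibreDimAt_of_subsingleton q z, hd']
  rw [ht] at ht'
  exact_mod_cast ht'.symm

/-- An irreducible closed subscheme over a maximal point of the base has there fibres of pure dimension. -/
theorem fibreDimAt_eq_over_generic {X S Z : Scheme.{u}} (p : X ⟶ S) [LocallyOfFiniteType p] (z : X)
    (hz : closure {p z} ∈ irreducibleComponents ↥S) (r : WithBot ℕ∞)
    (hr : topologicalKrullDim ↥(closure ({p.asFiber z} : Set ↥(p.fiber (p z)))) = r)
    (ι : Z ⟶ X) [IsClosedImmersion ι] (hZ : Set.range ι = closure {z})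
    (w : Z) (hw : closure {(ι ≫ p) w} ∈ irreducibleComponents ↥S) :
    (ι ≫ p) w = p z ∧ FlatMor.fibreDimAt (ι ≫ p) w = r := by
  have hsp : p z ⤳ (ι ≫ p) w :=
    (specializes_iff_mem_closure.2 (hZ.le ⟨w, rfl⟩)).map p.continuous
  have hsw : (ι ≫ p) w = p z :=
    ((hsp).antisymm (specializes_iff_mem_closure.2 (hw.2 hz.1
      (closure_minimal (Set.singleton_subset_iff.2 hsp.mem_closure) isClosed_closure) (subset_closure rfl)))).eq.symm
  refine ⟨hsw, ?_⟩
  obtain ⟨z0, hz0⟩ : z ∈ Set.range ι := hZ.ge (subset_closure rfl)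
  have hz0p : (ι ≫ p) z0 = p z := by rw [Scheme.Hom.comp_apply, hz0]
  have hgen : ∀ w' : Z, z0 ⤳ w' := fun w' => by
    refine ι.isClosedEmbedding.isInducing.specializes_iff.1 ?_
    rw [hz0]
    exact specializes_iff_mem_closure.2 (hZ.le ⟨w', rfl⟩)
  -- the generic point of the fibre
  obtain ⟨zF, hzF⟩ : ∃ zF : (ι ≫ p).fiber (p z), (ι ≫ p).fiberι (p z) zF = z0 :=
    ⟨((ι ≫ p).fiberHomeo _).symm ⟨z0, hz0p⟩,
      congrArg Subtype.val (((ι ≫ p).fiberHomeo (p z)).apply_symm_apply ⟨z0, hz0p⟩)⟩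
  have hgenF : ∀ v : (ι ≫ p).fiber (p z), zF ⤳ v := fun v =>
    ((ι ≫ p).fiberι (p z)).isEmbedding.isInducing.specializes_iff.1 (hzF ▸ hgen _)
  have hdim : topologicalKrullDim ↥((ι ≫ p).fiber (p z)) = r := by
    rw [← hr]
    refine dim_eq_of_range_eq (a := ι ∘ (ι ≫ p).fiberι (p z))
      (b := p.fiberι (p z) ∘ Subtype.val)
      (ι.isClosedEmbedding.isEmbedding.comp ((ι ≫ p).fiberι _).isEmbedding)
      ((p.fiberι _).isEmbedding.comp IsEmbedding.subtypeVal) ?_
    ext v
    constructor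
    · rintro ⟨u, rfl⟩
      have hv : p (ι ((ι ≫ p).fiberι (p z) u)) = p z := ((ι ≫ p).fiberHomeo (p z) u).2
      obtain ⟨v', hv'⟩ : ∃ v' : p.fiber (p z), p.fiberι (p z) v' = ι ((ι ≫ p).fiberι (p z) u) :=
        ⟨(p.fiberHomeo _).symm ⟨_, hv⟩, congrArg Subtype.val ((p.fiberHomeo (p z)).apply_symm_apply ⟨_, hv⟩)⟩
      refine ⟨⟨v', specializes_iff_mem_closure.1 ((p.fiberι _).isEmbedding.isInducing.specializes_iff.1 ?_)⟩, hv'⟩
      rw [p.fiberι_asFiber z, hv']
      exact specializes_iff_mem_closure.2 (hZ.le ⟨_, rfl⟩)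
    · rintro ⟨⟨v', hv'⟩, rfl⟩
      have h1 : z ⤳ p.fiberι (p z) v' :=
        (specializes_of_eq (p.fiberι_asFiber z).symm).trans ((specializes_iff_mem_closure.2 hv').map (p.fiberι _).continuous)
      obtain ⟨u, hu⟩ := hZ.ge h1.mem_closure
      have hu' : (ι ≫ p) u = p z := by
        rw [Scheme.Hom.comp_apply, hu]; exact (p.fiberHomeo (p z) v').2
      refine ⟨((ι ≫ p).fiberHomeo _).symm ⟨u, hu'⟩, ?_⟩
      show ι ((ι ≫ p).fiberι (p z) _) = p.fiberι (p z) v'
      rw [← hu]
      exact congrArg (fun t : ↥((ι ≫ p) ⁻¹' {p z}) => ι t.1) (((ι ≫ p).fiberHomeo (p z)).apply_symm_apply ⟨u, hu'⟩)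
  haveI : LocallyOfFiniteType ((ι ≫ p).fiberToSpecResidueField (p z)) :=
    MorphismProperty.pullback_snd _ _ inferInstance
  refine fibreDimAt_eq_of_maximal_in_fibre (ι ≫ p) r w ?_
  rw [hsw]
  intro η hη
  rw [← hη zF (hgenF η), fibreDimAt_fiberι,
    localDim_generic (k := S.residueField (p z)) ((ι ≫ p).fiberToSpecResidueField (p z)) zF hgenF, hdim]

/-- An injection of fibres with full range preserves the fibre dimension. -/
theorem fibreDimAt_comp_closedImmersion {W P T : Scheme.{u}} (i : W ⟶ P) [IsClosedImmersion i] (f : P ⟶ T) (w : W)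
    (h : f ⁻¹' {f (i w)} ⊆ Set.range i) :
    FlatMor.fibreDimAt (i ≫ f) w = FlatMor.fibreDimAt f (i w) := by
  have hw : (i ≫ f) w = f (i w) := Scheme.Hom.comp_apply i f w
  rw [FibreDimEt.fibreDimAt_eq_localDim (i ≫ f) w hw, FibreDimEt.fibreDimAt_eq_localDim f (i w) rfl]
  haveI := FibreDimEt.quasiSober_fibre (i ≫ f) (f (i w))
  haveI := FibreDimEt.quasiSober_fibre f (f (i w))
  let φ : ↥((i ≫ f) ⁻¹' {f (i w)}) → ↥(f ⁻¹' {f (i w)}) := fun v => ⟨i v.1, v.2⟩
  have hemb : IsEmbedding φ := IsEmbedding.of_comp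
    ((i.continuous.comp continuous_subtype_val).subtype_mk _) continuous_subtype_val
    (i.isClosedEmbedding.isEmbedding.comp IsEmbedding.subtypeVal)
  have hsurj : Set.range φ = Set.univ := Set.eq_univ_of_forall fun v => by
    obtain ⟨u, hu⟩ := h v.2
    exact ⟨⟨u, by rw [Set.mem_preimage, Scheme.Hom.comp_apply, hu]; exact v.2⟩, Subtype.ext hu⟩
  have ho : IsOpenEmbedding φ := ⟨hemb, hsurj ▸ isOpen_univ⟩
  exact FibreDimEt.localDim_eq_of_isGenLift (FibreDimEt.isGenLift_of_isOpenEmbedding ho) ho.isOpenMap ⟨w, hw⟩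

end Groth.Agent.EquidimUniv
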